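import Groth.Agent.NodeLib7.NodeFamily
import Groth.Agent.CAlgH3.FittOmega
import Groth.Agent.OmegaLib.DOmega
import Groth.Agent.HenselLib.UnramifiedPoints

/-! The singular locus of a family of nodal curves. -/

set_option autoImplicit false
set_option backward.isDefEq.respectTransparency.types false
set_option linter.style.haveILetI false
universe u

open CategoryTheory CategoryTheory.Limits AlgebraicGeometry TopologicalSpace Opposite

namespace Groth.Agent.NodalLocus5

open CAlgH3

/-- Fitting ideals of differentials pull back along étale squares. -/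
theorem comap_etale {X X' S S' : Scheme.{u}} {p₁ : X ⟶ S} {p₂ : X' ⟶ S'} (e : X' ⟶ X) (g : S' ⟶ S) [Etale e]
    [Etale g] [LocallyOfFiniteType p₁] [QuasiSeparated p₁] [LocallyOfFiniteType p₂] [QuasiSeparated p₂]
    (hsq : e ≫ p₁ = p₂ ≫ g) (i : ℕ) :
    (Fitt.sheafIdeal (Omega.sheaf p₁) i).comap e = Fitt.sheafIdeal (Omega.sheaf p₂) i := by
  haveI := MorProj.isQCoh_omega p₁
  haveI := MorProj.isQCoh_omega p₂
  rw [FlatMor12.FittSheaf.comap_eq _ _ (FittOmega.isFT_omega p₁)]
  haveI : Coh.IsQCoh ((Scheme.Modules.pullback e).obj (Omega.sheaf p₁)) :=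
    EGA43.InjFibre.isQCoh_pullback _ _
  obtain ⟨c, hc, -⟩ := Omega15.existsUnique_compat (f := p₁) (f' := p₂) e g hsq.symm
    (OmegaLib.isUniversal_dOmega p₁) (OmegaSh.dOmega p₂)
  haveI : IsIso c := Omega15.isIso_of_etale e g hsq (OmegaLib.isUniversal_dOmega p₁)
    (OmegaLib.isUniversal_dOmega p₂) hc
  exact FlatMorAdm.sheafIdeal_congr (Coherent.isFT_of_epi (inv c) (FittOmega.isFT_omega p₂))
    (FittOmega.isFT_omega p₂) (asIso c) i

open MvPolynomial in
/-- The first Fitting ideal of `uv = a` contains `u` and `v`. -/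
theorem node_fitt (A B : Type u) [CommRing A] [CommRing B] [Algebra A B] (φ : MvPolynomial (Fin 2) A →ₐ[A] B)
    (hφ : Function.Surjective φ) (a : A) (h : φ (X 0) * φ (X 1) = algebraMap A B a) (b : B) :
    ∃ c : A, b - algebraMap A B c ∈ Fitt.ideal B (Ω[B⁄A]) 1 := by
  let D := KaehlerDifferential.D A B
  let x : Fin 2 → Ω[B⁄A] := fun i => D (φ (X i))
  let N := Submodule.span B (Set.range x)
  have hD : ∀ p, D (φ p) ∈ N := fun p => by
    induction p using MvPolynomial.induction_on with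
    | C c => rw [← MvPolynomial.algebraMap_eq, AlgHom.commutes, Derivation.map_algebraMap]; exact zero_mem _
    | add p q hp hq => rw [map_add, map_add]; exact add_mem hp hq
    | mul_X p i hp =>
      rw [map_mul, Derivation.leibniz]
      exact add_mem (N.smul_mem _ (Submodule.subset_span ⟨i, rfl⟩)) (N.smul_mem _ hp)
  have hx : N = ⊤ := by
    rw [eq_top_iff, ← KaehlerDifferential.span_range_derivation A B, Submodule.span_le]
    rintro _ ⟨y, rfl⟩
    obtain ⟨p, rfl⟩ := hφ y
    exact hD p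
  have hrel : (![φ (X 1), φ (X 0)] : Fin 2 → B) ∈ FittLib.rels B x := by
    rw [FittLib.mem_rels, Fin.sum_univ_two]
    simp only [Matrix.cons_val_zero, Matrix.cons_val_one, x]
    rw [add_comm, ← Derivation.leibniz, h, Derivation.map_algebraMap]
  have hmem : ∀ i, φ (X i) ∈ Fitt.ideal B (Ω[B⁄A]) 1 := fun i => by
    rw [FittLib.ideal_eq x hx 1]
    fin_cases i
    · exact FittLib.mem_minorsOf_one (S := (FittLib.rels B x : Set (Fin 2 → B))) hrel 1
    · exact FittLib.mem_minorsOf_one (S := (FittLib.rels B x : Set (Fin 2 → B))) hrel 0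
  obtain ⟨p, rfl⟩ := hφ b
  induction p using MvPolynomial.induction_on with
  | C c => exact ⟨c, by rw [← MvPolynomial.algebraMap_eq, AlgHom.commutes, sub_self]; exact zero_mem _⟩
  | add p q hp hq =>
    obtain ⟨c, hc⟩ := hp
    obtain ⟨d, hd⟩ := hq
    exact ⟨c + d, by rw [map_add, map_add, add_sub_add_comm]; exact add_mem hc hd⟩
  | mul_X p i _ => exact ⟨0, by rw [map_mul, map_zero, sub_zero]; exact Ideal.mul_mem_left _ _ (hmem i)⟩

/-- The quotient map onto the coordinate ring of `uv = a`, seen on global sections, as an algebra map. -/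
theorem node_sections {C : Type u} [CommRing C] (a : C) :
    let q := Spec.map (CommRingCat.ofHom ((Ideal.Quotient.mk (Ideal.span
      {(MvPolynomial.X 0 * MvPolynomial.X 1 - MvPolynomial.C a : MvPolynomial (Fin 2) C)})).comp MvPolynomial.C))
    IsClosedImmersion ((Fitt.sheafIdeal (Omega.sheaf q) 1).subschemeι ≫ q) := by
  intro q
  let I := Ideal.span {(MvPolynomial.X 0 * MvPolynomial.X 1 - MvPolynomial.C a : MvPolynomial (Fin 2) C)}
  let R := MvPolynomial (Fin 2) C ⧸ I
  let W := Spec (CommRingCat.of R)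
  let T := Spec (CommRingCat.of C)
  haveI := MorProj.isQCoh_omega q
  haveI : LocallyOfFiniteType q := by
    rw [HasRingHomProperty.Spec_iff (P := @LocallyOfFiniteType)]
    show RingHom.FiniteType ((Ideal.Quotient.mk I).comp MvPolynomial.C)
    exact (RingHom.FiniteType.of_surjective _ Ideal.Quotient.mk_surjective).comp
      (RingHom.finiteType_algebraMap.2 (inferInstance : Algebra.FiniteType C (MvPolynomial (Fin 2) C)))
  let J := Fitt.sheafIdeal (Omega.sheaf q) 1
  have hUT : (⊤ : W.Opens) ≤ q ⁻¹ᵁ ⊤ := le_top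
  have hq0 : q.appLE ⊤ ⊤ hUT = q.appTop := q.appLE_eq_app
  letI := (q.appLE ⊤ ⊤ hUT).hom.toAlgebra
  obtain ⟨ψ, -⟩ := OmegaLib.exists_omega_sections_equiv q hUT (isAffineOpen_top T) (isAffineOpen_top W)
  let εC : C →+* Γ(T, ⊤) := (Scheme.ΓSpecIso (CommRingCat.of C)).inv.hom
  let εR : R →+* Γ(W, ⊤) := (Scheme.ΓSpecIso (CommRingCat.of R)).inv.hom
  have hcomm : ∀ c, algebraMap Γ(T, ⊤) Γ(W, ⊤) (εC c) = εR (Ideal.Quotient.mk I (MvPolynomial.C c)) := fun c => by
    rw [RingHom.algebraMap_toAlgebra]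
    show (q.appLE ⊤ ⊤ hUT) ((Scheme.ΓSpecIso (CommRingCat.of C)).inv c) = _
    rw [hq0]
    exact congr($(Scheme.ΓSpecIso_inv_naturality (CommRingCat.ofHom ((Ideal.Quotient.mk I).comp MvPolynomial.C))).hom c).symm
  let φ : MvPolynomial (Fin 2) Γ(T, ⊤) →ₐ[Γ(T, ⊤)] Γ(W, ⊤) :=
    MvPolynomial.aeval fun i => εR (Ideal.Quotient.mk I (MvPolynomial.X i))
  have hφ : ∀ p, φ (MvPolynomial.map εC p) = εR (Ideal.Quotient.mk I p) := fun p => by
    induction p using MvPolynomial.induction_on with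
    | C c => rw [MvPolynomial.map_C, MvPolynomial.aeval_C, hcomm]
    | add p q hp hq => simp only [map_add, hp, hq]
    | mul_X p i hp => simp only [map_mul, hp, MvPolynomial.map_X, φ, MvPolynomial.aeval_X]
  have hsurj : Function.Surjective φ := fun b => by
    obtain ⟨r, rfl⟩ := (Scheme.ΓSpecIso (CommRingCat.of R)).symm.commRingCatIsoToRingEquiv.surjective b
    obtain ⟨p, rfl⟩ := Ideal.Quotient.mk_surjective r
    exact ⟨_, hφ p⟩
  have hrel : φ (MvPolynomial.X 0) * φ (MvPolynomial.X 1) = algebraMap Γ(T, ⊤) Γ(W, ⊤) (εC a) := by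
    rw [hcomm, MvPolynomial.aeval_X, MvPolynomial.aeval_X, ← map_mul, ← map_mul]
    exact congrArg εR (Ideal.Quotient.eq.2 (Ideal.mem_span_singleton_self _))
  haveI : Module.Finite Γ(W, ⊤) Γ(Omega.sheaf q, ⊤) :=
    FlatMor12.FittSheaf.finite_affine _ (FittOmega.isFT_omega q) ⟨⊤, isAffineOpen_top W⟩
  haveI := Module.Finite.equiv ψ.symm
  haveI : IsAffine J.subscheme := isAffine_of_isAffineHom J.subschemeι
  refine IsClosedImmersion.of_surjective_of_isAffine _ fun z => ?_
  obtain ⟨b, rfl⟩ : ∃ b, J.subschemeι.app ⊤ b = z := J.subschemeι_app_surjective ⟨⊤, isAffineOpen_top W⟩ z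
  obtain ⟨c, hc⟩ := node_fitt Γ(T, ⊤) Γ(W, ⊤) φ hsurj (εC a) hrel b
  refine ⟨c, ?_⟩
  have hker : b - algebraMap Γ(T, ⊤) Γ(W, ⊤) c ∈ RingHom.ker (J.subschemeι.app ⊤).hom := by
    rw [J.ker_subschemeι_app ⟨⊤, isAffineOpen_top W⟩,
      FlatMor12.FittSheaf.ideal_eq _ (FittOmega.isFT_omega q)]
    rw [← FittLib.ideal_congr ψ]
    exact hc
  rw [RingHom.mem_ker, map_sub, sub_eq_zero] at hker
  refine Eq.trans ?_ hker.symm
  rw [RingHom.algebraMap_toAlgebra, hq0, Scheme.Hom.comp_appTop]
  rfl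

end Groth.Agent.NodalLocus5

namespace Groth.Agent.NodalLocus5

open CAlgH3

theorem formallyUnramified_of_eq_comap {U W : Scheme.{u}} {T : Scheme.{u}} (K : U.IdealSheafData)
    (L : W.IdealSheafData) (g : U ⟶ W) [Etale g] (hK : K = L.comap g) (r : W ⟶ T)
    [FormallyUnramified (L.subschemeι ≫ r)] : FormallyUnramified (K.subschemeι ≫ g ≫ r) := by
  subst hK
  have h : (L.comap g).subschemeι ≫ g ≫ r =
      (L.comapIso g).hom ≫ pullback.snd g L.subschemeι ≫ (L.subschemeι ≫ r) := by
    rw [← Scheme.IdealSheafData.comapIso_hom_fst, Category.assoc, pullback.condition_assoc]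
  rw [h]
  haveI : Etale (pullback.snd g L.subschemeι) := MorphismProperty.pullback_snd _ _ inferInstance
  exact MorphismProperty.comp_mem @FormallyUnramified _ _
    (inferInstance : FormallyUnramified (L.comapIso g).hom)
    (MorphismProperty.comp_mem @FormallyUnramified _ _ (inferInstance : FormallyUnramified (pullback.snd g L.subschemeι)) ‹_›)

theorem formallyUnramified_singular {X B : Scheme.{u}} (f : X ⟶ B) (hf : Curv2.IsNodalFamily f)
    [QuasiSeparated f] : FormallyUnramified ((Fitt.sheafIdeal (Omega.sheaf f) 1).subschemeι ≫ f) := by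
  haveI := hf.2.1
  let J := Fitt.sheafIdeal (Omega.sheaf f) 1
  let h := J.subschemeι ≫ f
  suffices H : ∀ z : J.subscheme, ∃ U : J.subscheme.Opens, z ∈ U ∧ FormallyUnramified (U.ι ≫ h) by
    choose U hz hU using H
    refine (IsZariskiLocalAtSource.iff_of_openCover (P := @FormallyUnramified)
      (J.subscheme.openCoverOfIsOpenCover U (eq_top_iff.2 fun z _ => Opens.mem_iSup.2 ⟨z, hz z⟩))).2 fun i => ?_
    exact hU i
  intro z
  haveI := hf.1
  by_contra hne
  have hsupp : z ∈ (Fitt.sheafIdeal (Omega.sheaf h) 0).support := (FittOmega.support_omega_zero h z).2 hne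
  obtain ⟨C, _, a, U, gU, gV, g, hgU, hgV, hg, hcomm, u, hu⟩ :=
    NodeLib7.exists_model_of_nodalFamily f hf (J.subschemeι z)
  obtain ⟨O, hO, huO, -⟩ := exists_isAffineOpen_mem_and_subset (x := u) (U := (⊤ : U.Opens)) trivial
  haveI : IsAffine O.toScheme := hO
  let q := Spec.map (CommRingCat.ofHom ((Ideal.Quotient.mk (Ideal.span
      {(MvPolynomial.X 0 * MvPolynomial.X 1 - MvPolynomial.C a : MvPolynomial (Fin 2) C)})).comp MvPolynomial.C))
  haveI : LocallyOfFiniteType q := by
    rw [HasRingHomProperty.Spec_iff (P := @LocallyOfFiniteType)]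
    exact (RingHom.FiniteType.of_surjective _ Ideal.Quotient.mk_surjective).comp
      (RingHom.finiteType_algebraMap.2 (inferInstance : Algebra.FiniteType C (MvPolynomial (Fin 2) C)))
  let e := O.ι ≫ gU
  let g' := O.ι ≫ g
  have hsq : e ≫ f = g' ≫ q ≫ gV := by simp only [e, g', q, Category.assoc, hcomm]
  have h1 := comap_etale (p₁ := f) (p₂ := e ≫ f) e (𝟙 B) (Category.comp_id _).symm 1
  have h2 := comap_etale (p₁ := q ≫ gV) (p₂ := e ≫ f) g' (𝟙 B) (by rw [Category.comp_id, hsq]) 1
  have h3 := comap_etale (p₁ := q ≫ gV) (p₂ := q) (𝟙 _) gV (Category.id_comp _) 1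
  rw [Scheme.IdealSheafData.comap_id] at h3
  have hK : J.comap e = (Fitt.sheafIdeal (Omega.sheaf q) 1).comap g' := by rw [h1, ← h2, h3]
  haveI : IsClosedImmersion ((Fitt.sheafIdeal (Omega.sheaf q) 1).subschemeι ≫ q) := node_sections a
  haveI : FormallyUnramified ((Fitt.sheafIdeal (Omega.sheaf q) 1).subschemeι ≫ q ≫ gV) := by
    rw [← Category.assoc]
    exact MorphismProperty.comp_mem @FormallyUnramified _ _ (inferInstance : FormallyUnramified (_ ≫ q)) (inferInstance : FormallyUnramified gV)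
  haveI := formallyUnramified_of_eq_comap _ _ g' hK (q ≫ gV)
  let s := (J.comapIso e).hom ≫ pullback.snd e J.subschemeι
  haveI : Etale (pullback.snd e J.subschemeι) := MorphismProperty.pullback_snd _ _ inferInstance
  have hs' : s ≫ J.subschemeι = (J.comap e).subschemeι ≫ e := by
    rw [← Scheme.IdealSheafData.comapIso_hom_fst]
    simp only [s, Category.assoc, pullback.condition]
  have hs : s ≫ h = (J.comap e).subschemeι ≫ g' ≫ q ≫ gV := by
    rw [show s ≫ h = (s ≫ J.subschemeι) ≫ f from (Category.assoc _ _ _).symm, hs', Category.assoc, hsq]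
  haveI : FormallyUnramified (s ≫ h) := by rw [hs]; infer_instance
  haveI : IsAffine (J.comap e).subscheme := isAffine_of_isAffineHom (J.comap e).subschemeι
  obtain ⟨u', hu'⟩ : (⟨u, huO⟩ : O) ∈ Set.range (J.comap e).subschemeι := by
    rw [Scheme.IdealSheafData.range_subschemeι, Scheme.IdealSheafData.support_comap]
    show gU u ∈ J.support
    rw [show gU u = J.subschemeι z from hu, ← SetLike.mem_coe, ← Scheme.IdealSheafData.range_subschemeι]
    exact ⟨z, rfl⟩
  have hsz : s u' = z := by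
    refine J.subschemeι.isEmbedding.injective ?_
    rw [← Scheme.Hom.comp_apply, hs', Scheme.Hom.comp_apply, hu']
    exact hu
  have h4 := comap_etale (p₁ := h) (p₂ := s ≫ h) s (𝟙 B) (Category.comp_id _).symm 0
  have hu'' : u' ∈ (Fitt.sheafIdeal (Omega.sheaf (s ≫ h)) 0).support := by
    rw [← h4, Scheme.IdealSheafData.support_comap]
    rw [← SetLike.mem_coe, TopologicalSpace.Closeds.coe_preimage, Set.mem_preimage, hsz]
    exact hsupp
  exact (FittOmega.support_omega_zero (s ≫ h) u').1 hu''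
    ⟨⊤, trivial, MorphismProperty.comp_mem @FormallyUnramified _ _ (inferInstance : FormallyUnramified (Scheme.Opens.ι _)) ‹_›⟩

theorem singular_finite_unramified {X B : Scheme.{u}} (f : X ⟶ B) (hf : Curv2.IsNodalFamily f) [IsProper f]
    (Ω : X.Modules) (d : OmegaSh.Der f Ω) (hd : OmegaSh.IsUniversal d) :
    IsFinite ((Fitt.sheafIdeal Ω 1).subschemeι ≫ f) ∧
      FormallyUnramified ((Fitt.sheafIdeal Ω 1).subschemeι ≫ f) := by
  haveI := hf.2.1
  haveI := MorProj.isQCoh_omega f
  have hft := FittOmega.isFT_omega f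
  obtain ⟨c, hc, -⟩ := Omega15.existsUnique_compat (f := f) (f' := f) (𝟙 X) (𝟙 B) (by simp) hd (OmegaSh.dOmega f)
  haveI : IsIso c := Omega15.isIso_of_etale (𝟙 X) (𝟙 B) (by simp) hd (OmegaLib.isUniversal_dOmega f) hc
  let i : Ω ≅ Omega.sheaf f := (Scheme.Modules.pullbackId X).symm.app Ω ≪≫ asIso c
  haveI : Coh.IsQCoh Ω := (SheafOfModules.isQuasicoherent X.ringCatSheaf).prop_of_iso i.symm inferInstance
  rw [FlatMorAdm.sheafIdeal_congr (Coherent.isFT_of_epi i.inv hft) hft i 1]
  have hu := formallyUnramified_singular f hf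
  haveI := HenselLib.UnramifiedPoints.locallyQuasiFinite_of_unramified ((Fitt.sheafIdeal (Omega.sheaf f) 1).subschemeι ≫ f)
  exact ⟨IsFinite.of_isProper_of_locallyQuasiFinite _, hu⟩

end Groth.Agent.NodalLocus5
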